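import Mathlib

/-!
Automorphisms of alternating groups of degree at least four, other than six, are conjugations
by permutations: automorphisms fix the class of three-cycles (largest centraliser among the
elements of order three), and pairs of three-cycles with product of order two share an edge.
-/

set_option autoImplicit false

open Equiv

namespace CfsgLib.AutAlt

section Cyc

variable {α : Type*} [DecidableEq α]

/-- the three-cycle `a → b → c → a` -/
def cyc (a b c : α) : Perm α := swap a b * swap b c

theorem cyc_apply_left {a b c : α} (hab : a ≠ b) (hac : a ≠ c) : cyc a b c a = b := by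
  simp [cyc, swap_apply_of_ne_of_ne hab hac]

theorem cyc_apply_mid {a b c : α} (hac : a ≠ c) (hbc : b ≠ c) : cyc a b c b = c := by
  simp [cyc, swap_apply_of_ne_of_ne hac.symm hbc.symm]

theorem cyc_apply_right (a b c : α) : cyc a b c c = a := by
  simp [cyc]

theorem cyc_apply_of_ne {a b c x : α} (ha : x ≠ a) (hb : x ≠ b) (hc : x ≠ c) :
    cyc a b c x = x := by
  simp [cyc, swap_apply_of_ne_of_ne hb hc, swap_apply_of_ne_of_ne ha hb]

theorem conj_cyc (σ : Perm α) (a b c : α) :
    σ * cyc a b c * σ⁻¹ = cyc (σ a) (σ b) (σ c) := by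
  simp only [cyc, Equiv.swap_apply_apply, Perm.mul_def]
  ext x
  simp

theorem cyc_rot {a b c : α} (hab : a ≠ b) (hac : a ≠ c) (hbc : b ≠ c) :
    cyc b c a = cyc a b c := by
  ext x
  by_cases ha : x = a
  · subst ha
    rw [cyc_apply_right, cyc_apply_left hab hac]
  by_cases hb : x = b
  · subst hb
    rw [cyc_apply_left hbc hab.symm, cyc_apply_mid hac hbc]
  by_cases hc : x = c
  · subst hc
    rw [cyc_apply_mid hab.symm hac.symm, cyc_apply_right]
  rw [cyc_apply_of_ne hb hc ha, cyc_apply_of_ne ha hb hc]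

variable [Fintype α]

theorem cyc_isThreeCycle {a b c : α} (hab : a ≠ b) (hac : a ≠ c) (hbc : b ≠ c) :
    (cyc a b c).IsThreeCycle := by
  rw [cyc, swap_comm a b]
  exact Perm.isThreeCycle_swap_mul_swap_same hab.symm hbc hac

theorem three_pow {X : Perm α} (hX : X.IsThreeCycle) (q : α) : X (X (X q)) = q := by
  have h := pow_orderOf_eq_one X
  rw [hX.orderOf] at h
  have := Perm.ext_iff.mp h q
  simpa [pow_succ, Perm.mul_apply] using this

theorem eq_cyc {X : Perm α} (hX : X.IsThreeCycle) {q : α} (hq : X q ≠ q) :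
    X = cyc q (X q) (X (X q)) := by
  have h12 : X q ≠ X (X q) := fun h => hq (X.injective h).symm
  have h02 : q ≠ X (X q) := by
    intro h
    have h3 := three_pow hX q
    rw [← h] at h3
    exact hq h3
  have hs : ({q, X q, X (X q)} : Finset α) = X.support := by
    apply Finset.eq_of_subset_of_card_le
    · intro x hx
      rw [Perm.mem_support]
      simp only [Finset.mem_insert, Finset.mem_singleton] at hx
      rcases hx with rfl | rfl | rfl
      · exact hq
      · exact fun h => hq (X.injective h)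
      · exact fun h => hq (X.injective (X.injective h))
    · rw [hX.card_support]
      rw [Finset.card_eq_three.mpr ⟨q, X q, X (X q), hq.symm, h02, h12, rfl⟩]
  ext x
  by_cases h0 : x = q
  · subst h0; rw [cyc_apply_left hq.symm h02]
  by_cases h1 : x = X q
  · subst h1; rw [cyc_apply_mid h02 h12]
  by_cases h2 : x = X (X q)
  · subst h2; rw [cyc_apply_right, three_pow hX]
  rw [cyc_apply_of_ne h0 h1 h2]
  by_contra hne
  have : x ∈ X.support := Perm.mem_support.mpr hne
  rw [← hs] at this
  simp [h0, h1, h2] at this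

/-- two three-cycles whose product has order two share a directed edge -/
theorem shared_edge {X Y : Perm α} (hX : X.IsThreeCycle) (hY : Y.IsThreeCycle)
    (h2 : (X * Y) ^ 2 = 1) (hne : X * Y ≠ 1) : ∃ q, X q ≠ q ∧ X q = Y q := by
  have hev : ∀ x, X (Y (X (Y x))) = x := fun x => by
    simpa [pow_two, Perm.mul_apply] using Perm.ext_iff.mp h2 x
  by_cases hp : ∃ p, Y p ≠ p ∧ X p = p
  · obtain ⟨p, hYp, hXp⟩ := hp
    have h1 : Y (X (Y p)) = p := X.injective ((hev p).trans hXp.symm)
    have h2' : X (Y p) = Y (Y p) := by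
      apply Y.injective
      rw [h1, three_pow hY]
    refine ⟨Y p, ?_, h2'⟩
    rw [h2']
    exact fun h => hYp (Y.injective h)
  · push Not at hp
    obtain ⟨a, ha⟩ : ∃ a, Y a ≠ a := by
      have : Y.support.Nonempty := by
        rw [← Finset.card_pos, hY.card_support]; norm_num
      obtain ⟨a, ha⟩ := this
      exact ⟨a, Perm.mem_support.mp ha⟩
    have hXa : X a ≠ a := hp a ha
    refine ⟨a, hXa, ?_⟩
    -- `Y a` lies in the support of `X`
    have hYa : Y a = X a ∨ Y a = X (X a) := by
      by_contra hc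
      push Not at hc
      have hfix : X (Y a) = Y a := by
        conv_lhs => rw [eq_cyc hX hXa]
        exact cyc_apply_of_ne ha hc.1 hc.2
      exact hp (Y a) (fun h => ha (Y.injective h)) hfix
    rcases hYa with h | h
    · exact h.symm
    · exfalso
      have hXXa : X (X a) ≠ X a := fun h' => hXa (X.injective h')
      have hYY : Y (Y a) = X a := by
        by_contra hc
        have hne1 : Y (Y a) ≠ a := by
          intro h'
          have h3 := three_pow hY a
          rw [h'] at h3
          exact ha h3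
        have hne2 : Y (Y a) ≠ X (X a) := h ▸ fun h' => ha (Y.injective h')
        have hfix : X (Y (Y a)) = Y (Y a) := by
          conv_lhs => rw [eq_cyc hX hXa]
          exact cyc_apply_of_ne hne1 hc hne2
        exact hp (Y (Y a)) (fun h' => ha (Y.injective (Y.injective h'))) hfix
      have hYeq : Y = cyc a (X (X a)) (X a) := by
        conv_lhs => rw [eq_cyc hY ha]
        rw [h] at hYY ⊢
        rw [hYY]
      apply hne
      ext x
      simp only [Perm.mul_apply, Perm.one_apply]
      have h02 : a ≠ X (X a) := by rw [← h]; exact ha.symm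
      by_cases hx0 : x = a
      · subst hx0; rw [h, three_pow hX]
      by_cases hx2 : x = X (X a)
      · subst hx2
        rw [hYeq, cyc_apply_mid hXa.symm hXXa]
      by_cases hx1 : x = X a
      · subst hx1
        rw [hYeq, cyc_apply_right]
      rw [hYeq, cyc_apply_of_ne hx0 hx2 hx1]
      conv_lhs => rw [eq_cyc hX hXa]
      exact cyc_apply_of_ne hx0 hx1 hx2

theorem edge_third {X Y Z : Perm α} (hX : X.IsThreeCycle) (hY : Y.IsThreeCycle)
    (hZ : Z.IsThreeCycle) {a b c d : α} (hXa : X a = b) (hXb : X b = c) (hXc : X c = a)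
    (hYa : Y a = b) (hYb : Y b = d) (hYd : Y d = a)
    (hab : a ≠ b) (hac : a ≠ c) (hbc : b ≠ c) (had : a ≠ d) (hbd : b ≠ d) (hcd : c ≠ d)
    (hq : ∃ q, X q ≠ q ∧ X q = Z q) (hq' : ∃ q, Y q ≠ q ∧ Y q = Z q) : Z a = b := by
  obtain ⟨q, hq1, hq2⟩ := hq
  obtain ⟨q', hq'1, hq'2⟩ := hq'
  have hmX : q = a ∨ q = b ∨ q = c := by
    by_contra hn
    push Not at hn
    apply hq1
    conv_lhs => rw [eq_cyc hX (q := a) (by rw [hXa]; exact hab.symm), hXa, hXb]
    exact cyc_apply_of_ne hn.1 hn.2.1 hn.2.2
  have hmY : q' = a ∨ q' = b ∨ q' = d := by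
    by_contra hn
    push Not at hn
    apply hq'1
    conv_lhs => rw [eq_cyc hY (q := a) (by rw [hYa]; exact hab.symm), hYa, hYb]
    exact cyc_apply_of_ne hn.1 hn.2.1 hn.2.2
  rcases hmX with rfl | rfl | rfl
  · rw [← hq2, hXa]
  · rcases hmY with rfl | rfl | rfl
    · rw [← hq'2, hYa]
    · exact absurd (hXb ▸ hYb ▸ hq2.trans hq'2.symm) hcd
    · exfalso
      -- `q → c`, `q' → a`: four points moved by `Z`
      have h1 : Z q = c := hq2.symm.trans hXb
      have h2 : Z q' = a := hq'2.symm.trans hYd
      have hcard : ({q, c, q', a} : Finset α).card ≤ 3 := by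
        rw [← hZ.card_support]
        apply Finset.card_le_card
        intro x hx
        simp only [Finset.mem_insert, Finset.mem_singleton] at hx
        rw [Perm.mem_support]
        rcases hx with rfl | rfl | rfl | rfl
        · rw [h1]; exact hbc.symm
        · intro h; exact hbc (Z.injective (h1.trans h.symm))
        · rw [h2]; exact had
        · intro h; exact had.symm (Z.injective (h2.trans h.symm))
      simp [Finset.card_insert_of_notMem, hbc, hbd, hab.symm, hcd, hac.symm, had.symm] at hcard
  · rcases hmY with rfl | rfl | rfl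
    · rw [← hq'2, hYa]
    · exfalso
      have h1 : Z q = a := hq2.symm.trans hXc
      have h2 : Z q' = d := hq'2.symm.trans hYb
      have hcard : ({q, a, q', d} : Finset α).card ≤ 3 := by
        rw [← hZ.card_support]
        apply Finset.card_le_card
        intro x hx
        simp only [Finset.mem_insert, Finset.mem_singleton] at hx
        rw [Perm.mem_support]
        rcases hx with rfl | rfl | rfl | rfl
        · rw [h1]; exact hac
        · intro h; exact hac (Z.injective (h.trans h1.symm))
        · rw [h2]; exact hbd.symm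
        · intro h; exact hbd (Z.injective (h2.trans h.symm))
      simp [Finset.card_insert_of_notMem, hac.symm, hbc.symm, hcd, hab, had, hbd] at hcard
    · exfalso
      exact hcd (Z.injective ((hq2.symm.trans hXc).trans (hq'2.symm.trans hYd).symm))

end Cyc

section Main

variable {α : Type*} [Fintype α] [DecidableEq α]

local notation "A" => alternatingGroup α

theorem centralizer_alt_le (g : A) :
    Nat.card (Subgroup.centralizer ({g} : Set A)) ≤
      Nat.card (Subgroup.centralizer ({(g : Perm α)} : Set (Perm α))) := by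
  refine Nat.card_le_card_of_injective
    (fun x => ⟨((x : A) : Perm α), ?_⟩) fun x y h => ?_
  · rw [Subgroup.mem_centralizer_singleton_iff]
    exact congrArg Subtype.val (Subgroup.mem_centralizer_singleton_iff.mp x.2)
  · apply Subtype.ext
    apply Subtype.ext
    exact congrArg (fun z : Subgroup.centralizer ({(g : Perm α)} : Set (Perm α)) => (z : Perm α)) h

theorem centralizer_le_two_mul (g : A) :
    Nat.card (Subgroup.centralizer ({(g : Perm α)} : Set (Perm α))) ≤
      2 * Nat.card (Subgroup.centralizer ({g} : Set A)) := by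
  classical
  set C := Subgroup.centralizer ({(g : Perm α)} : Set (Perm α)) with hC
  let f : C →* ℤˣ := Perm.sign.comp C.subtype
  have h1 := Subgroup.card_mul_index f.ker
  have h2 : f.ker.index ≤ 2 := by
    rw [Subgroup.index_ker]
    calc Nat.card f.range ≤ Nat.card ℤˣ := Subgroup.card_le_card_group _
      _ = 2 := by rw [Nat.card_eq_fintype_card]; decide
  have h3 : Nat.card f.ker ≤ Nat.card (Subgroup.centralizer ({g} : Set A)) := by
    refine Nat.card_le_card_of_injective
      (fun x => ⟨⟨((x : C) : Perm α), Perm.mem_alternatingGroup.mpr (MonoidHom.mem_ker.mp x.2)⟩,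
        ?_⟩) fun x y h => ?_
    · rw [Subgroup.mem_centralizer_singleton_iff]
      exact Subtype.ext (Subgroup.mem_centralizer_singleton_iff.mp (x : C).2)
    · apply Subtype.ext
      apply Subtype.ext
      exact congrArg (fun z : Subgroup.centralizer ({g} : Set A) => ((z : A) : Perm α)) h
  calc Nat.card C = Nat.card f.ker * f.ker.index := h1.symm
    _ ≤ Nat.card (Subgroup.centralizer ({g} : Set A)) * 2 := Nat.mul_le_mul h3 h2
    _ = _ := by ring

theorem two_mul_lt_aux : ∀ k : ℕ, 3 ≤ k →
    2 * (3 ^ k * k.factorial) < 3 * (3 * k - 3).factorial := by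
  intro k hk
  induction k, hk using Nat.le_induction with
  | base => decide
  | succ m hm ih =>
    have h1 : 3 * (m + 1) - 3 = (3 * m - 3) + 3 := by omega
    rw [h1, Nat.factorial_succ (3 * m - 3 + 2), Nat.factorial_succ (3 * m - 3 + 1),
      Nat.factorial_succ (3 * m - 3), pow_succ, Nat.factorial_succ m]
    have h2 : 3 * (m + 1) ≤ (3 * m - 3 + 2 + 1) * ((3 * m - 3 + 1 + 1) * (3 * m - 3 + 1)) := by
      calc 3 * (m + 1) ≤ (3 * m - 3 + 2 + 1) * (3 * 1) := by
            have : m + 1 ≤ 3 * m - 3 + 2 + 1 := by omega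
            nlinarith
        _ ≤ _ := Nat.mul_le_mul_left _ (Nat.mul_le_mul (by omega) (by omega))
    calc 2 * (3 ^ m * 3 * ((m + 1) * m.factorial))
        = (2 * (3 ^ m * m.factorial)) * (3 * (m + 1)) := by ring
      _ < (3 * (3 * m - 3).factorial) * (3 * (m + 1)) :=
          Nat.mul_lt_mul_of_pos_right ih (by omega)
      _ ≤ (3 * (3 * m - 3).factorial) *
          ((3 * m - 3 + 2 + 1) * ((3 * m - 3 + 1 + 1) * (3 * m - 3 + 1))) :=
          Nat.mul_le_mul_left _ h2
      _ = _ := by ring

theorem two_mul_lt {n k : ℕ} (hn : 7 ≤ n) (hk : 2 ≤ k) (hkn : 3 * k ≤ n) :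
    2 * ((n - 3 * k).factorial * 3 ^ k * k.factorial) < 3 * (n - 3).factorial := by
  rcases eq_or_lt_of_le hk with rfl | hk3
  · obtain ⟨m, rfl⟩ : ∃ m, n = m + 7 := ⟨n - 7, by omega⟩
    have e1 : m + 7 - 3 * 2 = m + 1 := by omega
    have e2 : m + 7 - 3 = m + 4 := by omega
    rw [e1, e2, Nat.factorial_succ (m + 3), Nat.factorial_succ (m + 2),
      Nat.factorial_succ (m + 1)]
    have hpos := Nat.factorial_pos (m + 1)
    simp only [Nat.factorial_two]
    nlinarith [Nat.mul_le_mul (Nat.mul_le_mul (show 4 ≤ m + 3 + 1 by omega)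
      (show 3 ≤ m + 2 + 1 by omega)) (show 2 ≤ m + 1 + 1 by omega)]
  · have hdvd : (n - 3 * k).factorial * (3 * k - 3).factorial ≤ (n - 3).factorial := by
      have h := Nat.le_of_dvd (Nat.factorial_pos _)
        (Nat.factorial_mul_factorial_dvd_factorial (show 3 * k - 3 ≤ n - 3 by omega))
      have e : n - 3 - (3 * k - 3) = n - 3 * k := by omega
      rw [e, mul_comm] at h
      exact h
    have := two_mul_lt_aux k hk3
    have hpos := Nat.factorial_pos (n - 3 * k)
    nlinarith

theorem card_centralizer_of_order_three {g : Perm α} (hg : orderOf g = 3) :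
    ∃ k : ℕ, 1 ≤ k ∧ 3 * k ≤ Fintype.card α ∧ (k = 1 ↔ g.IsThreeCycle) ∧
      Nat.card (Subgroup.centralizer ({g} : Set (Perm α))) =
        (Fintype.card α - 3 * k).factorial * 3 ^ k * k.factorial := by
  obtain ⟨k, hk⟩ := Perm.cycleType_prime_order (σ := g) (by rw [hg]; exact Nat.prime_three)
  rw [hg] at hk
  have hsum : g.cycleType.sum = 3 * (k + 1) := by
    rw [hk, Multiset.sum_replicate]; simp [mul_comm]
  refine ⟨k + 1, by omega, ?_, ?_, ?_⟩
  · rw [← hsum, Perm.sum_cycleType]
    exact Finset.card_le_univ _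
  · rw [Perm.IsThreeCycle, hk]
    constructor
    · intro h
      have : k = 0 := by omega
      subst this; rfl
    · intro h
      have := congrArg Multiset.card h
      simpa using this
  · rw [Perm.nat_card_centralizer, hsum, hk, Multiset.prod_replicate,
      Multiset.toFinset_replicate, if_neg (by omega), Finset.prod_singleton,
      Multiset.count_replicate_self]

/-- automorphisms preserve three-cycles, except in degree six -/
theorem isThreeCycle_map (φ : A ≃* A) (h6 : Fintype.card α ≠ 6) {g : A}
    (hg : (g : Perm α).IsThreeCycle) : ((φ g : A) : Perm α).IsThreeCycle := by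
  have hord : orderOf ((φ g : A) : Perm α) = 3 := by
    rw [Subgroup.orderOf_coe, φ.orderOf_eq, ← Subgroup.orderOf_coe, hg.orderOf]
  obtain ⟨k, hk1, hkn, hkiff, hkc⟩ := card_centralizer_of_order_three hord
  obtain ⟨l, hl1, hln, hliff, hlc⟩ := card_centralizer_of_order_three hg.orderOf
  obtain rfl := hliff.mpr hg
  apply hkiff.mp
  by_contra hk
  have hk2 : 2 ≤ k := by omega
  have hn : 7 ≤ Fintype.card α := by omega
  have hlt := two_mul_lt hn hk2 hkn
  rw [← hkc] at hlt
  have e : Nat.card (Subgroup.centralizer ({g} : Set A)) =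
      Nat.card (Subgroup.centralizer ({φ g} : Set A)) := by
    refine Nat.card_congr (φ.toEquiv.subtypeEquiv fun x => ?_)
    simp only [MulEquiv.toEquiv_eq_coe, EquivLike.coe_coe, Subgroup.mem_centralizer_singleton_iff]
    rw [← map_mul, ← map_mul, φ.injective.eq_iff]
  have h1 := centralizer_le_two_mul g
  have h2 := centralizer_alt_le (φ g)
  rw [hlc] at h1
  simp only [Nat.factorial_one, pow_one, mul_one] at h1
  omega

theorem mem_of_basic {H : Subgroup (Perm α)} {p q : α} (hpq : p ≠ q)
    (h : ∀ i, i ≠ p → i ≠ q → cyc p q i ∈ H) :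
    alternatingGroup α ≤ H := by
  rw [← Perm.closure_three_cycles_eq_alternating, Subgroup.closure_le]
  -- cycles through `p` avoiding `q`
  have hinv : ∀ a b c : α, a ≠ b → a ≠ c → b ≠ c → (cyc a b c)⁻¹ = cyc a c b := by
    intro a b c hab hac hbc
    apply inv_eq_of_mul_eq_one_right
    ext x
    simp only [Perm.mul_apply, Perm.one_apply]
    by_cases ha : x = a
    · subst ha; rw [cyc_apply_left hac hab, cyc_apply_right]
    by_cases hb : x = b
    · subst hb; rw [cyc_apply_right, cyc_apply_left hab hac]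
    by_cases hc : x = c
    · subst hc; rw [cyc_apply_mid hab hbc.symm, cyc_apply_mid hac hbc]
    rw [cyc_apply_of_ne ha hc hb, cyc_apply_of_ne ha hb hc]
  have hA : ∀ i j, i ≠ p → i ≠ q → j ≠ p → j ≠ q → i ≠ j → cyc p i j ∈ H := by
    intro i j hip hiq hjp hjq hij
    have e : cyc p i j = cyc p q j * cyc p i q := by
      ext x
      simp only [Perm.mul_apply]
      by_cases h0 : x = p
      · subst h0
        rw [cyc_apply_left hip.symm hjp.symm, cyc_apply_left hip.symm hpq,
          cyc_apply_of_ne hip hiq hij]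
      by_cases h1 : x = i
      · subst h1
        rw [cyc_apply_mid hjp.symm hij, cyc_apply_mid hpq hiq,
          cyc_apply_mid hjp.symm hjq.symm]
      by_cases h2 : x = j
      · subst h2
        rw [cyc_apply_right, cyc_apply_of_ne hjp hij.symm hjq, cyc_apply_right]
      by_cases h3 : x = q
      · subst h3
        rw [cyc_apply_of_ne h0 h1 h2, cyc_apply_right, cyc_apply_left hpq hjp.symm]
      rw [cyc_apply_of_ne h0 h1 h2, cyc_apply_of_ne h0 h1 h3, cyc_apply_of_ne h0 h3 h2]
    rw [e, ← hinv p q i hpq hip.symm hiq.symm]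
    exact H.mul_mem (h j hjp hjq) (H.inv_mem (h i hip hiq))
  have hP : ∀ i j, i ≠ p → j ≠ p → i ≠ j → cyc p i j ∈ H := by
    intro i j hip hjp hij
    by_cases hi : i = q
    · subst hi; exact h j hjp hij.symm
    by_cases hj : j = q
    · subst hj
      rw [← hinv p j i hpq hip.symm (Ne.symm hi)]
      exact H.inv_mem (h i hip hi)
    exact hA i j hip hi hjp hj hij
  intro σ hσ
  obtain ⟨a, ha⟩ : ∃ a, σ a ≠ a := by
    have : σ.support.Nonempty := by
      rw [← Finset.card_pos, hσ.card_support]; norm_num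
    obtain ⟨a, ha⟩ := this
    exact ⟨a, Perm.mem_support.mp ha⟩
  show σ ∈ H
  by_cases hmem : σ p = p
  · rw [eq_cyc hσ ha]
    set b := σ a with hb
    set c := σ b with hc
    have hbc : b ≠ c := fun h' => ha (σ.injective h').symm
    have hca : c ≠ a := by
      intro h'
      have h3 := three_pow hσ a
      rw [← hb, ← hc, h'] at h3
      exact ha h3
    have hpa : a ≠ p := fun h' => ha (by rw [hb, h', hmem])
    have hpb : b ≠ p := fun h' => hpa (σ.injective (h'.trans hmem.symm))
    have hpc : c ≠ p := fun h' => hpb (σ.injective (h'.trans hmem.symm))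
    have hg : cyc p c a ∈ H := hP c a hpc hpa hca
    have e : cyc p c a * cyc p a b * (cyc p c a)⁻¹ = cyc c p b := by
      rw [conj_cyc, cyc_apply_left hpc.symm hpa.symm, cyc_apply_right,
        cyc_apply_of_ne hpb hbc (ha)]
    have hcpb : cyc c p b ∈ H :=
      e ▸ H.mul_mem (H.mul_mem hg (hP a b hpa hpb ha.symm)) (H.inv_mem hg)
    have e2 : cyc c p b * cyc p a b * (cyc c p b)⁻¹ = cyc b a c := by
      rw [conj_cyc, cyc_apply_mid hbc.symm hpb.symm, cyc_apply_right,
        cyc_apply_of_ne hca.symm hpa ha.symm]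
    have h1 : cyc b a c ∈ H :=
      e2 ▸ H.mul_mem (H.mul_mem hcpb (hP a b hpa hpb ha.symm)) (H.inv_mem hcpb)
    rw [← cyc_rot ha.symm hca.symm hbc, ← hinv b a c ha hbc hca.symm]
    exact H.inv_mem h1
  · rw [eq_cyc hσ hmem]
    refine hP _ _ hmem ?_ fun h' => hmem (σ.injective h').symm
    intro h'
    have h3 := three_pow hσ p
    rw [h'] at h3
    exact hmem h3

theorem exists_conj_of_preserves (φ : A ≃* A) (h4 : 4 ≤ Fintype.card α)
    (hpres : ∀ g : A, (g : Perm α).IsThreeCycle → ((φ g : A) : Perm α).IsThreeCycle) :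
    ∃ σ : Perm α, ∀ g : A, ((φ g : A) : Perm α) = σ * g * σ⁻¹ := by
  classical
  obtain ⟨p, q, i₀, j₀, hpq, hpi, hpj, hqi, hqj, hij⟩ :
      ∃ p q i j : α, p ≠ q ∧ p ≠ i ∧ p ≠ j ∧ q ≠ i ∧ q ≠ j ∧ i ≠ j := by
    obtain ⟨e⟩ : Nonempty (Fin 4 ↪ α) :=
      Function.Embedding.nonempty_of_card_le (by simpa using h4)
    exact ⟨e 0, e 1, e 2, e 3, e.injective.ne (by decide), e.injective.ne (by decide),
      e.injective.ne (by decide), e.injective.ne (by decide), e.injective.ne (by decide),
      e.injective.ne (by decide)⟩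
  let x : {i : α // i ≠ p ∧ i ≠ q} → A := fun i =>
    ⟨cyc p q i, (cyc_isThreeCycle hpq i.2.1.symm i.2.2.symm).mem_alternatingGroup⟩
  let X : {i : α // i ≠ p ∧ i ≠ q} → Perm α := fun i => ((φ (x i) : A) : Perm α)
  have hX3 : ∀ i, (X i).IsThreeCycle := fun i =>
    hpres (x i) (cyc_isThreeCycle hpq i.2.1.symm i.2.2.symm)
  have hedge : ∀ i j, i ≠ j → ∃ r, X i r ≠ r ∧ X i r = X j r := by
    intro i j hne
    have hne' : (i : α) ≠ j := fun h => hne (Subtype.ext h)
    have hsq : (x i * x j) ^ 2 = 1 ∧ x i * x j ≠ 1 := by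
      constructor
      · apply Subtype.ext
        simp only [SubgroupClass.coe_pow, Subgroup.coe_mul, OneMemClass.coe_one, x]
        ext y
        simp only [pow_two, Perm.mul_apply, Perm.one_apply]
        by_cases h0 : y = p
        · subst h0
          rw [cyc_apply_left hpq j.2.1.symm, cyc_apply_mid i.2.1.symm i.2.2.symm,
            cyc_apply_of_ne i.2.1 i.2.2 hne', cyc_apply_right]
        by_cases h1 : y = q
        · subst h1
          rw [cyc_apply_mid j.2.1.symm j.2.2.symm, cyc_apply_of_ne j.2.1 j.2.2 hne'.symm,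
            cyc_apply_right, cyc_apply_left hpq i.2.1.symm]
        by_cases h2 : y = i
        · subst h2
          rw [cyc_apply_of_ne h0 h1 hne', cyc_apply_right, cyc_apply_left hpq j.2.1.symm,
            cyc_apply_mid i.2.1.symm i.2.2.symm]
        by_cases h3 : y = j
        · subst h3
          rw [cyc_apply_right, cyc_apply_left hpq i.2.1.symm,
            cyc_apply_mid j.2.1.symm j.2.2.symm, cyc_apply_of_ne h0 h1 h2]
        rw [cyc_apply_of_ne h0 h1 h3, cyc_apply_of_ne h0 h1 h2, cyc_apply_of_ne h0 h1 h3,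
          cyc_apply_of_ne h0 h1 h2]
      · intro h
        have h' : cyc p q (i : α) (cyc p q (j : α) p) = p := by
          simpa [x] using Perm.ext_iff.mp (congrArg Subtype.val h) p
        rw [cyc_apply_left hpq j.2.1.symm, cyc_apply_mid i.2.1.symm i.2.2.symm] at h'
        exact i.2.1 h'
    refine shared_edge (hX3 i) (hX3 j) ?_ ?_
    · rw [← Subgroup.coe_mul, ← map_mul, ← SubgroupClass.coe_pow, ← map_pow, hsq.1]
      simp
    · intro h
      apply hsq.2
      apply φ.injective
      apply Subtype.ext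
      simpa [X, map_mul] using h
  set s : {i : α // i ≠ p ∧ i ≠ q} := ⟨i₀, hpi.symm, hqi.symm⟩ with hs
  set t : {i : α // i ≠ p ∧ i ≠ q} := ⟨j₀, hpj.symm, hqj.symm⟩ with ht
  have hst : s ≠ t := fun h => hij (congrArg Subtype.val h)
  have hXinj : Function.Injective X := by
    intro i j h
    have h1 : cyc p q (i : α) = cyc p q (j : α) := by
      have := congrArg Subtype.val (φ.injective (Subtype.ext h) : x i = x j)
      simpa [x] using this
    have h2 := Perm.ext_iff.mp h1 q
    rw [cyc_apply_mid i.2.1.symm i.2.2.symm, cyc_apply_mid j.2.1.symm j.2.2.symm] at h2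
    exact Subtype.ext h2
  obtain ⟨a, ha1, ha2⟩ := hedge s t hst
  set b := X s a with hb
  set c := X s b with hc
  set d := X t b with hd
  have hYa : X t a = b := ha2.symm
  have hXc : X s c = a := three_pow (hX3 s) a
  have hYd : X t d = a := by rw [hd, ← hYa]; exact three_pow (hX3 t) a
  have hab : a ≠ b := ha1.symm
  have hbc : b ≠ c := fun h => ha1 ((X s).injective h).symm
  have hac : a ≠ c := by
    intro h
    have := hXc
    rw [← h] at this
    exact ha1 this
  have hbd : b ≠ d := fun h => hab ((X t).injective (hYa.trans h))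
  have had : a ≠ d := by
    intro h
    have := hYd
    rw [← h, hYa] at this
    exact hab this.symm
  have hcd : c ≠ d := by
    intro h
    apply hst
    apply hXinj
    rw [eq_cyc (hX3 s) ha1, eq_cyc (hX3 t) (q := a) (by rw [hYa]; exact ha1), hYa, ← hb,
      ← hc, ← hd, h]
  have hall : ∀ i, X i a = b := by
    intro i
    by_cases h1 : i = s
    · rw [h1]
    by_cases h2 : i = t
    · rw [h2, hYa]
    exact edge_third (hX3 s) (hX3 t) (hX3 i) rfl rfl hXc hYa rfl hYd hab hac hbc had hbd hcd
      (hedge s i (Ne.symm h1)) (hedge t i (Ne.symm h2))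
  have hcyc : ∀ i, X i = cyc a b (X i b) := fun i => by
    conv_lhs => rw [eq_cyc (hX3 i) (q := a) (by rw [hall i]; exact hab.symm), hall i]
  have hib : ∀ i, X i b ≠ a ∧ X i b ≠ b := by
    intro i
    constructor
    · intro h
      have h3 := three_pow (hX3 i) a
      rw [hall i, h, hall i] at h3
      exact hab h3.symm
    · intro h
      exact hab ((X i).injective (h.trans (hall i).symm)).symm
  let f : α → α := fun i =>
    if h : i ≠ p ∧ i ≠ q then X ⟨i, h⟩ b else if i = p then a else b
  have hfp : f p = a := by simp [f]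
  have hfq : f q = b := by simp [f, hpq.symm]
  have hfi : ∀ i : {i : α // i ≠ p ∧ i ≠ q}, f i = X i b := fun i => by
    simp only [f]; rw [dif_pos i.2]
  have hfinj : Function.Injective f := by
    intro i j h
    by_cases hip : i = p
    · subst hip
      by_cases hjp : j = i
      · exact hjp.symm
      by_cases hjq : j = q
      · subst hjq; rw [hfp, hfq] at h; exact absurd h hab
      rw [hfp, show j = ((⟨j, hjp, hjq⟩ : {k : α // k ≠ i ∧ k ≠ q}) : α) from rfl, hfi] at h
      exact absurd h.symm (hib _).1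
    by_cases hiq : i = q
    · subst hiq
      by_cases hjp : j = p
      · subst hjp; rw [hfp, hfq] at h; exact absurd h hab.symm
      by_cases hjq : j = i
      · exact hjq.symm
      rw [hfq, show j = ((⟨j, hjp, hjq⟩ : {k : α // k ≠ p ∧ k ≠ i}) : α) from rfl, hfi] at h
      exact absurd h.symm (hib _).2
    rw [show i = ((⟨i, hip, hiq⟩ : {k : α // k ≠ p ∧ k ≠ q}) : α) from rfl, hfi] at h
    by_cases hjp : j = p
    · subst hjp; rw [hfp] at h; exact absurd h (hib _).1
    by_cases hjq : j = q
    · subst hjq; rw [hfq] at h; exact absurd h (hib _).2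
    rw [show j = ((⟨j, hjp, hjq⟩ : {k : α // k ≠ p ∧ k ≠ q}) : α) from rfl, hfi] at h
    have : (⟨i, hip, hiq⟩ : {k : α // k ≠ p ∧ k ≠ q}) = ⟨j, hjp, hjq⟩ :=
      hXinj (by rw [hcyc ⟨i, hip, hiq⟩, hcyc ⟨j, hjp, hjq⟩, h])
    exact congrArg Subtype.val this
  let σ : Perm α := Equiv.ofBijective f ⟨hfinj, Finite.injective_iff_surjective.mp hfinj⟩
  have hσ : ∀ y, σ y = f y := fun _ => rfl
  refine ⟨σ, ?_⟩
  let E : Subgroup A :=
    ((alternatingGroup α).subtype.comp φ.toMonoidHom).eqLocus
      ((MulAut.conj σ).toMonoidHom.comp (alternatingGroup α).subtype)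
  have hle : alternatingGroup α ≤ E.map (alternatingGroup α).subtype := by
    refine mem_of_basic hpq fun i hip hiq => ?_
    refine ⟨x ⟨i, hip, hiq⟩, ?_, rfl⟩
    show X ⟨i, hip, hiq⟩ = σ * cyc p q i * σ⁻¹
    rw [conj_cyc, hσ, hσ, hσ, hfp, hfq, hfi ⟨i, hip, hiq⟩]
    exact hcyc _
  intro g
  obtain ⟨g', hg', hgg⟩ := hle g.2
  obtain rfl : g' = g := Subtype.ext hgg
  simpa [E, MonoidHom.eqLocus] using hg'

theorem exists_conj_of_mulEquiv (φ : A ≃* A) (h4 : 4 ≤ Fintype.card α)
    (h6 : Fintype.card α ≠ 6) :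
    ∃ σ : Perm α, ∀ g : A, ((φ g : A) : Perm α) = σ * g * σ⁻¹ :=
  exists_conj_of_preserves φ h4 fun _ hg => isThreeCycle_map φ h6 hg

theorem conjNormal_bijective (h4 : 4 ≤ Fintype.card α) (h6 : Fintype.card α ≠ 6) :
    Function.Bijective (MulAut.conjNormal : Perm α →* MulAut A) := by
  constructor
  · rw [injective_iff_map_eq_one]
    intro σ hσ
    ext a
    by_contra ha
    rw [Perm.one_apply] at ha
    obtain ⟨b, c, hb, hc, hbc⟩ :
        ∃ b c, b ∉ ({a, σ a} : Finset α) ∧ c ∉ ({a, σ a} : Finset α) ∧ b ≠ c := by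
      have : 1 < (Finset.univ \ ({a, σ a} : Finset α)).card := by
        rw [Finset.card_sdiff, Finset.card_univ]
        have := Finset.card_le_two (a := a) (b := σ a)
        have := Finset.card_le_univ (({a, σ a} : Finset α) ∩ Finset.univ)
        simp only [Finset.inter_univ] at *
        omega
      obtain ⟨b, hb, c, hc, hbc⟩ := Finset.one_lt_card.mp this
      exact ⟨b, c, by simpa using hb, by simpa using hc, hbc⟩
    simp only [Finset.mem_insert, Finset.mem_singleton, not_or] at hb hc
    have hg := cyc_isThreeCycle (Ne.symm hb.1) (Ne.symm hc.1) hbc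
    have h := congrArg (fun e : MulAut A => ((e ⟨_, hg.mem_alternatingGroup⟩ : A) : Perm α)) hσ
    simp only [MulAut.conjNormal_apply, MulAut.one_apply, conj_cyc] at h
    have h2 := Perm.ext_iff.mp h (σ a)
    rw [cyc_apply_left (σ.injective.ne (Ne.symm hb.1)) (σ.injective.ne (Ne.symm hc.1)),
      cyc_apply_of_ne (a := a) ha (Ne.symm hb.2) (Ne.symm hc.2)] at h2
    exact hb.1 (σ.injective h2)
  · intro φ
    obtain ⟨σ, hσ⟩ := exists_conj_of_mulEquiv φ h4 h6
    refine ⟨σ, MulEquiv.ext fun g => Subtype.ext ?_⟩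
    rw [MulAut.conjNormal_apply]
    exact (hσ g).symm

end Main

end CfsgLib.AutAlt
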